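import Groth.Agent.Lib.OX.Exact
import Groth.Agent.Lib.OX.PullbackStalk
import Groth.Agent.Lib.QCoh.Abelian
import Groth.Agent.Lib.QCoh.Locality
import Groth.Agent.Lib.QCoh.Qcqs
import Groth.Agent.Lib.FittSheaf.Pullback
import Groth.Prelude.Def_Coh
import Mathlib.RingTheory.Flat.FaithfullyFlat.Basic
import Mathlib.AlgebraicGeometry.Morphisms.Flat
import Mathlib.AlgebraicGeometry.Morphisms.UnderlyingMap

/-! # Quasi-coherence descends along flat quasi-compact surjections -/

set_option autoImplicit false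
set_option linter.all false
set_option backward.isDefEq.respectTransparency false

universe u

open CategoryTheory CategoryTheory.Limits AlgebraicGeometry TopologicalSpace
open scoped TensorProduct

namespace GrothLib.QCohDesc

variable {W V : Scheme.{u}} (p : W ⟶ V)

theorem mono_stalk_pullback_iff {M N : V.Modules} (φ : M ⟶ N) (x : W) :
    Mono ((OX.stalk x).map ((Scheme.Modules.pullback p).map φ)) ↔
      Mono ((ModuleCat.extendScalars (p.stalkMap x).hom).map ((OX.stalk (p x)).map φ)) :=
  (MorphismProperty.monomorphisms _).arrow_mk_iso_iff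
    (Arrow.isoMk ((OX.pullStalkIso p x).app M) ((OX.pullStalkIso p x).app N) ((OX.pullStalkIso p x).hom.naturality φ).symm)

/-- Flat pullback preserves monomorphisms. -/
theorem mono_pullback_map [Flat p] {M N : V.Modules} (φ : M ⟶ N) [Mono φ] :
    Mono ((Scheme.Modules.pullback p).map φ) := by
  refine (OX.mono_iff _).2 fun x => (mono_stalk_pullback_iff p φ x).2 ?_
  have hf : Function.Injective ((OX.stalk (p x)).map φ).hom :=
    (ModuleCat.mono_iff_injective _).1 inferInstance
  rw [ModuleCat.mono_iff_injective]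
  letI : Algebra (V.presheaf.stalk (p x)) (W.presheaf.stalk x) := (p.stalkMap x).hom.toAlgebra
  haveI : Module.Flat (V.presheaf.stalk (p x)) (W.presheaf.stalk x) := Flat.stalkMap p x
  exact Module.Flat.lTensor_preserves_injective_linearMap _ hf

/-- Faithfully flat pullback reflects monomorphisms. -/
theorem mono_of_mono_pullback_map [Flat p] [Surjective p] {M N : V.Modules} (φ : M ⟶ N)
    [Mono ((Scheme.Modules.pullback p).map φ)] : Mono φ := by
  refine (OX.mono_iff _).2 fun y => ?_
  obtain ⟨x, rfl⟩ := p.surjective y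
  have h := (mono_stalk_pullback_iff p φ x).1 inferInstance
  rw [ModuleCat.mono_iff_injective] at h ⊢
  letI : Algebra (V.presheaf.stalk (p x)) (W.presheaf.stalk x) := (p.stalkMap x).hom.toAlgebra
  haveI : Module.Flat (V.presheaf.stalk (p x)) (W.presheaf.stalk x) := Flat.stalkMap p x
  haveI : IsLocalHom (algebraMap (V.presheaf.stalk (p x)) (W.presheaf.stalk x)) :=
    inferInstanceAs (IsLocalHom (p.stalkMap x).hom)
  haveI : Module.FaithfullyFlat (V.presheaf.stalk (p x)) (W.presheaf.stalk x) :=
    Module.FaithfullyFlat.of_flat_of_isLocalHom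
  exact (Module.FaithfullyFlat.lTensor_injective_iff_injective (R := V.presheaf.stalk (p x))
    (M := W.presheaf.stalk x) ((OX.stalk (p x)).map φ).hom).1 h

theorem mono_unit [Flat p] [Surjective p] (M : V.Modules) :
    Mono ((Scheme.Modules.pullbackPushforwardAdjunction p).unit.app M) := by
  let adj := Scheme.Modules.pullbackPushforwardAdjunction p
  haveI : Mono ((Scheme.Modules.pullback p).map (adj.unit.app M)) :=
    (SplitMono.mk _ (adj.left_triangle_components M)).mono
  exact mono_of_mono_pullback_map p (adj.unit.app M)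

/-- Quasi-coherence descends along an affine flat surjection. -/
theorem isQuasicoherent_of_pullback_affine [IsAffineHom p] [Flat p] [Surjective p] (M : V.Modules)
    (h : ((Scheme.Modules.pullback p).obj M).IsQuasicoherent) : M.IsQuasicoherent := by
  let P := Scheme.Modules.pullback p
  let adj := Scheme.Modules.pullbackPushforwardAdjunction p
  let A := (Scheme.Modules.pushforward p).obj (P.obj M)
  let η : M ⟶ A := adj.unit.app M
  haveI : Mono η := mono_unit p M
  haveI := h
  haveI hA : A.IsQuasicoherent := QCoh.isQuasicoherent_pushforward p (P.obj M)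
  haveI : (P.obj A).IsQuasicoherent := FittSheaf.isQuasicoherent_pullback p A
  let C := cokernel η
  haveI : (P.obj C).IsQuasicoherent := by
    haveI := QCoh.isQuasicoherent_cokernel (P.map η)
    exact QCoh.isQuasicoherent_of_iso (PreservesCokernel.iso P η).symm
  let B := (Scheme.Modules.pushforward p).obj (P.obj C)
  haveI hB : B.IsQuasicoherent := QCoh.isQuasicoherent_pushforward p (P.obj C)
  haveI : Mono (adj.unit.app C) := mono_unit p C
  haveI : ((Scheme.Modules.pullback p ⋙ Scheme.Modules.pushforward p).obj C).IsQuasicoherent := hB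
  haveI := QCoh.isQuasicoherent_kernel (cokernel.π η ≫ adj.unit.app C)
  exact QCoh.isQuasicoherent_of_iso (kernelCompMono (cokernel.π η) (adj.unit.app C) ≪≫
    IsLimit.conePointUniqueUpToIso (kernelIsKernel (cokernel.π η)) (Abelian.monoIsKernelOfCokernel _ (colimit.isColimit (parallelPair η 0))))

/-- Quasi-coherence descends along flat quasi-compact surjections. -/
theorem isQuasicoherent_of_pullback {X Y : Scheme.{u}} (f : X ⟶ Y) [Flat f] [Surjective f] [QuasiCompact f]
    (M : Y.Modules) (h : ((Scheme.Modules.pullback f).obj M).IsQuasicoherent) : M.IsQuasicoherent := by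
  refine QCoh.isQuasicoherent_of_restrict M (fun V : Y.affineOpens => V.1)
    (TopologicalSpace.IsOpenCover.mk (eq_top_iff.2 fun y _ => ?_)) fun V => ?_
  · obtain ⟨_, ⟨V, hV, rfl⟩, hy, -⟩ := Y.isBasis_affineOpens.exists_subset_of_mem_open (Set.mem_univ y) isOpen_univ
    exact Opens.mem_iSup.2 ⟨⟨V, hV⟩, hy⟩
  have hc : IsCompact ((f ⁻¹ᵁ V.1 : X.Opens) : Set X) := f.isCompact_preimage V.2.isCompact
  obtain ⟨s, hs, hcov⟩ := isCompact_iff_finite_and_eq_biUnion_affineOpens.1 hc
  haveI : Finite s := hs.to_subtype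
  let U : s → Scheme.{u} := fun A => (A.1.1 : Scheme.{u})
  haveI : ∀ A : s, IsAffine (U A) := fun A => A.1.2
  have hle : ∀ A : s, A.1.1 ≤ f ⁻¹ᵁ V.1 := fun A x hx => by
    rw [hcov]
    exact Opens.mem_iSup.2 ⟨A.1, Opens.mem_iSup.2 ⟨A.2, hx⟩⟩
  let q : ∐ U ⟶ (V.1 : Scheme.{u}) := Sigma.desc fun A => f.resLE V.1 A.1.1 (hle A)
  haveI : IsAffine (V.1 : Scheme.{u}) := V.2
  haveI : IsAffineHom q := inferInstance
  haveI : Flat q := IsZariskiLocalAtSource.sigmaDesc fun A => by
    haveI : Flat (f.resLE V.1 A.1.1 (hle A)) := inferInstance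
    infer_instance
  haveI : Surjective q := ⟨fun y => by
    obtain ⟨x, hx⟩ := f.surjective y.1
    have hxV : x ∈ f ⁻¹ᵁ V.1 := by show f x ∈ V.1; rw [hx]; exact y.2
    rw [hcov] at hxV
    obtain ⟨A, hxV⟩ := Opens.mem_iSup.1 hxV
    obtain ⟨hA, hxA⟩ := Opens.mem_iSup.1 hxV
    refine ⟨(Sigma.ι U ⟨A, hA⟩) ⟨x, hxA⟩, Subtype.ext ?_⟩
    rw [← Scheme.Hom.comp_apply, Sigma.ι_desc]
    show (f.resLE V.1 A.1 _ ≫ V.1.ι) ⟨x, hxA⟩ = y.1
    rw [Scheme.Hom.resLE_comp_ι]
    exact hx⟩
  refine isQuasicoherent_of_pullback_affine q _ ?_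
  haveI := h
  let r : ∐ U ⟶ X := Sigma.desc fun A => A.1.1.ι
  have hfac : r ≫ f = q ≫ V.1.ι := Sigma.hom_ext _ _ fun A => by
    simp only [r, q, Sigma.ι_desc_assoc, Scheme.Hom.resLE_comp_ι]
  haveI := FittSheaf.isQuasicoherent_pullback r ((Scheme.Modules.pullback f).obj M)
  haveI : ((Scheme.Modules.pullback f ⋙ Scheme.Modules.pullback r).obj M).IsQuasicoherent :=
    FittSheaf.isQuasicoherent_pullback r ((Scheme.Modules.pullback f).obj M)
  exact QCoh.isQuasicoherent_of_iso
    ((Scheme.Modules.pullbackComp r f).app M ≪≫ (Scheme.Modules.pullbackCongr hfac).app M ≪≫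
      (Scheme.Modules.pullbackComp q V.1.ι).symm.app M ≪≫
      (Scheme.Modules.pullback q).mapIso ((Scheme.Modules.restrictFunctorIsoPullback V.1.ι).symm.app M))

end GrothLib.QCohDesc
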